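import Cfsg.Agent.H508.KB.Defs
import Cfsg.Agent.H978.Alm.Nonab
import Cfsg.Agent.S0188
import Cfsg.Agent.Blocks.Covering
import Cfsg.Agent.Blocks.Local
import Cfsg.Agent.Blocks.Central
import Cfsg.Prelude.Def_LieTypeChar
import Cfsg.Prelude.Def_Classification2

/-!
# S4822, T0: product characters of `N = S ^ t` in the principal block (helper819)

* `mem_outer` : the outer product of characters in the principal blocks is in the principal block;
* `step` : the same for commuting subgroups with trivial intersection;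
* `exists_prod` : the product of characters of the components of `N`.
-/

set_option autoImplicit false

open Cfsg Subgroup Cfsg.Agent.H508.KB
open Cfsg.Agent.Lib.MinNormalNonabelian Cfsg.Agent.H531.LemX
open scoped ComplexConjugate

namespace Cfsg.Agent.H819.KB.Prod

open Cfsg.Agent.Blocks.Local Cfsg.Agent.Blocks.Basic

universe u v

section outer

variable {A : Type u} {B : Type v} [Group A] [Group B]

theorem centralizer_pair (a : A) (b : B) :
    centralizer ({(a, b)} : Set (A × B)) = (centralizer ({a} : Set A)).prod (centralizer ({b} : Set B)) := by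
  ext ⟨x, y⟩
  simp only [mem_prod, mem_centralizer_singleton_iff, Prod.mk_mul_mk, Prod.mk.injEq]

theorem centralChar_outer (φ : A → ℂ) (ψ : B → ℂ) (a : A) (b : B) :
    centralChar (fun x : A × B => φ x.1 * ψ x.2) (a, b) = centralChar φ a * centralChar ψ b := by
  unfold centralChar
  rw [centralizer_pair, index_prod]
  push_cast
  rw [div_mul_div_comm]
  congr 1
  ring

/-- the outer product of characters in the principal blocks -/
theorem mem_outer [Finite A] [Finite B] {M : Ideal AlgInt} [M.IsPrime] {α : IrrCharacter A}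
    (hα : α ∈ principalBlock M A) {β : IrrCharacter B} (hβ : β ∈ principalBlock M B) :
    (⟨fun x => (α : A → ℂ) x.1 * (β : B → ℂ) x.2, Cfsg.Agent.S0188.isIrr_outer α.2 β.2⟩ : IrrCharacter (A × B)) ∈
      principalBlock M (A × B) := by
  rintro ⟨a, b⟩
  have h1 : centralChar (fun _ : A × B => (1 : ℂ)) (a, b) =
      centralChar (fun _ : A => (1 : ℂ)) a * centralChar (fun _ : B => (1 : ℂ)) b := by
    rw [← centralChar_outer]
    simp only [mul_one]
  show MemLocalIdeal M (centralChar (fun _ : A × B => (1 : ℂ)) (a, b) -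
    centralChar (fun x : A × B => (α : A → ℂ) x.1 * (β : B → ℂ) x.2) (a, b))
  rw [h1, centralChar_outer]
  refine memLocalIdeal_mul_sub_mul ?_ ?_ (hα a) (hβ b)
  · exact memLocalRing_of_isIntegral (Cfsg.Agent.Blocks.Central.isIntegral_centralChar isIrrCharacter_one a)
  · exact memLocalRing_of_isIntegral (Cfsg.Agent.Blocks.Central.isIntegral_centralChar β.2 b)

end outer

/-- transport of the principal block -/
theorem mem_comp {G : Type u} {H : Type v} [Group G] [Group H] [Finite G] {M : Ideal AlgInt} (e : G ≃* H)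
    {χ : IrrCharacter H} (h : χ ∈ principalBlock M H) :
    (⟨fun g => (χ : H → ℂ) (e g), Cfsg.Agent.Characters.Core.isIrr_comp e.toMonoidHom e.surjective χ.2⟩ :
      IrrCharacter G) ∈ principalBlock M G := by
  intro g
  have h1 := Cfsg.Agent.Blocks.Covering.centralChar_comp_equiv e (fun _ : H => (1 : ℂ)) g
  have h2 := Cfsg.Agent.Blocks.Covering.centralChar_comp_equiv e (χ : H → ℂ) g
  show MemLocalIdeal M (centralChar (fun _ : G => (1 : ℂ)) g - centralChar (fun g => (χ : H → ℂ) (e g)) g)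
  rw [h1, h2]
  exact h (e g)

/-- the outer product for commuting subgroups with trivial intersection -/
theorem step {G : Type u} [Group G] [Finite G] {H K : Subgroup G} (hc : ∀ a ∈ H, ∀ b ∈ K, Commute a b)
    (hd : ∀ z ∈ H, z ∈ K → z = 1) {M : Ideal AlgInt} [M.IsPrime] (α : IrrCharacter H)
    (hα : α ∈ principalBlock M H) (β : IrrCharacter K) (hβ : β ∈ principalBlock M K) :
    ∃ ψ : IrrCharacter ↥(H ⊔ K), ψ ∈ principalBlock M ↥(H ⊔ K) ∧
      ∀ (a : G) (ha : a ∈ H) (b : G) (hb : b ∈ K) (hab : a * b ∈ H ⊔ K),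
        (ψ : ↥(H ⊔ K) → ℂ) ⟨a * b, hab⟩ = (α : H → ℂ) ⟨a, ha⟩ * (β : K → ℂ) ⟨b, hb⟩ := by
  let f : H × K →* ↥(H ⊔ K) :=
    { toFun := fun x => ⟨x.1 * x.2, mul_mem (le_sup_left (b := K) x.1.2) (le_sup_right (a := H) x.2.2)⟩
      map_one' := by
        apply Subtype.ext
        simp
      map_mul' := by
        rintro ⟨a, b⟩ ⟨c, d⟩
        apply Subtype.ext
        change (a * c : G) * (b * d) = (a * b) * (c * d)
        have := (hc c c.2 b b.2).eq
        calc (a * c : G) * (b * d) = a * (c * b) * d := by group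
          _ = a * (b * c) * d := by rw [this]
          _ = (a * b) * (c * d) := by group }
  have hinj : Function.Injective f := by
    rw [injective_iff_map_eq_one]
    rintro ⟨a, b⟩ h
    have h1 : (a : G) * b = 1 := congrArg Subtype.val h
    have h2 : (a : G) = (b : G)⁻¹ := eq_inv_of_mul_eq_one_left h1
    have h3 : (a : G) = 1 := hd a a.2 (by rw [h2]; exact inv_mem b.2)
    have h4 : (b : G) = 1 := by rw [h3, one_mul] at h1; exact h1
    exact Prod.ext (Subtype.ext h3) (Subtype.ext h4)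
  have hle : H ≤ normalizer (K : Set G) := by
    intro a ha
    rw [mem_normalizer_iff]
    intro b
    constructor
    · intro hb
      rw [(hc a ha b hb).eq, mul_inv_cancel_right]
      exact hb
    · intro hb
      have h1 := (hc a⁻¹ (inv_mem ha) _ hb).eq
      have h2 : b = a * b * a⁻¹ := by
        have h3 : a⁻¹ * (a * b * a⁻¹) = (a * b * a⁻¹) * a⁻¹ := h1
        have h4 : b * a⁻¹ = (a * b * a⁻¹) * a⁻¹ := by rw [← h3]; group
        exact mul_right_cancel h4
      rw [h2]
      exact hb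
  have hsurj : Function.Surjective f := by
    rintro ⟨x, hx⟩
    have h1 : x ∈ ((H ⊔ K : Subgroup G) : Set G) := hx
    rw [coe_mul_of_left_le_normalizer_right _ _ hle] at h1
    obtain ⟨a, ha, b, hb, rfl⟩ := h1
    exact ⟨(⟨a, ha⟩, ⟨b, hb⟩), rfl⟩
  let e : H × K ≃* ↥(H ⊔ K) := MulEquiv.ofBijective f ⟨hinj, hsurj⟩
  refine ⟨_, mem_comp e.symm (mem_outer hα hβ), fun a ha b hb hab => ?_⟩
  have h1 : e.symm ⟨a * b, hab⟩ = (⟨a, ha⟩, ⟨b, hb⟩) := by
    rw [MulEquiv.symm_apply_eq]
    rfl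
  show (α : H → ℂ) (e.symm ⟨a * b, hab⟩).1 * (β : K → ℂ) (e.symm ⟨a * b, hab⟩).2 = _
  rw [h1]

section main

variable {p : ℕ} [Fact p.Prime] {M : Ideal AlgInt} {G : Type u} [Group G] [Finite G] {N : Subgroup G} [N.Normal]

omit [Fact p.Prime] in
theorem aux (hM : IsPModular p M) (hstr : Str N) (θ : ∀ V : minSet N, IrrCharacter ↥V.1)
    (hθ : ∀ V : minSet N, θ V ∈ principalBlock M ↥V.1) (s : Finset (minSet N)) :
    ∀ W : Subgroup G, W = s.sup (fun V => V.1) →
    ∃ Θ : IrrCharacter W, Θ ∈ principalBlock M W ∧ ∀ V ∈ s, ∀ (n : W) (hn : (n : G) ∈ V.1),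
      (Θ : W → ℂ) n * (θ V : ↥V.1 → ℂ) 1 = (Θ : W → ℂ) 1 * (θ V : ↥V.1 → ℂ) ⟨n, hn⟩ := by
  classical
  have : M.IsPrime := isPrime_of_isPModular hM
  induction s using Finset.induction_on with
  | empty =>
    intro W _
    exact ⟨⟨fun _ => 1, isIrrCharacter_one⟩, sameBlock_refl _, fun V hV => absurd hV (Finset.notMem_empty _)⟩
  | insert V₀ s hV₀ ih =>
    intro W hW
    rw [Finset.sup_insert] at hW
    subst hW
    obtain ⟨Θ, hΘ, h⟩ := ih _ rfl
    have hc : ∀ a ∈ V₀.1, ∀ b ∈ s.sup (fun V : minSet N => V.1), Commute a b := by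
      intro a ha
      have h1 : s.sup (fun V : minSet N => V.1) ≤ centralizer ({a} : Set G) := by
        refine Finset.sup_le fun V hV b hb => ?_
        rw [mem_centralizer_singleton_iff]
        exact (hstr.comm V₀ V (fun h => hV₀ (h ▸ hV)) a ha b hb).eq.symm
      intro b hb
      exact (mem_centralizer_singleton_iff.1 (h1 hb)).symm
    have hd : ∀ z ∈ V₀.1, z ∈ s.sup (fun V : minSet N => V.1) → z = 1 := fun z hz hz' =>
      hstr.cen V₀ z hz fun t ht => (hc t ht z hz').symm
    obtain ⟨ψ, hψ, hv⟩ := step hc hd (θ V₀) (hθ V₀) Θ hΘ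
    refine ⟨ψ, hψ, fun V hV n hn => ?_⟩
    have h1 : (ψ : ↥(V₀.1 ⊔ s.sup (fun V : minSet N => V.1)) → ℂ) 1 =
        (θ V₀ : ↥V₀.1 → ℂ) 1 * (Θ : ↥(s.sup (fun V : minSet N => V.1)) → ℂ) 1 := by
      have h2 := hv 1 (one_mem _) 1 (one_mem _) (by rw [mul_one]; exact one_mem _)
      have h3 : (⟨(1 : G) * 1, by rw [mul_one]; exact one_mem _⟩ : ↥(V₀.1 ⊔ s.sup (fun V : minSet N => V.1))) = 1 :=
        Subtype.ext (mul_one _)
      rw [h3] at h2
      exact h2
    rw [h1]
    rcases Finset.mem_insert.1 hV with rfl | hV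
    · have h2 := hv n hn 1 (one_mem _) (by rw [mul_one]; exact n.2)
      have h3 : (⟨(n : G) * 1, by rw [mul_one]; exact n.2⟩ : ↥(V.1 ⊔ s.sup (fun V : minSet N => V.1))) = n :=
        Subtype.ext (mul_one _)
      rw [h3] at h2
      rw [h2]
      have h4 : (⟨(1 : G), one_mem _⟩ : ↥(s.sup (fun V : minSet N => V.1))) = 1 := rfl
      rw [h4]
      ring
    · have hnW : (n : G) ∈ s.sup (fun V : minSet N => V.1) :=
        (Finset.le_sup (f := fun V : minSet N => V.1) hV : V.1 ≤ _) hn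
      have h2 := hv 1 (one_mem _) n hnW (by rw [one_mul]; exact n.2)
      have h3 : (⟨1 * (n : G), by rw [one_mul]; exact n.2⟩ : ↥(V₀.1 ⊔ s.sup (fun V : minSet N => V.1))) = n :=
        Subtype.ext (one_mul _)
      rw [h3] at h2
      rw [h2]
      have h4 : (⟨(1 : G), one_mem _⟩ : ↥V₀.1) = 1 := rfl
      rw [h4, mul_assoc, h V hV ⟨n, hnW⟩ hn]
      ring

/-- T0: product characters -/
theorem exists_prod (hM : IsPModular p M) (hstr : Str N) (θ : ∀ V : minSet N, IrrCharacter ↥V.1)
    (hθ : ∀ V : minSet N, θ V ∈ principalBlock M ↥V.1) :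
    ∃ Θ : IrrCharacter N, Θ ∈ principalBlock M N ∧ ∀ (V : minSet N) (n : N) (hn : (n : G) ∈ V.1),
      (Θ : N → ℂ) n * (θ V : ↥V.1 → ℂ) 1 = (Θ : N → ℂ) 1 * (θ V : ↥V.1 → ℂ) ⟨n, hn⟩ := by
  classical
  have : Fintype (minSet N) := Fintype.ofFinite _
  have h1 : N = (Finset.univ : Finset (minSet N)).sup (fun V => V.1) := by
    rw [Finset.sup_univ_eq_iSup, ← sSup_eq_iSup']
    exact hstr.gen.symm
  obtain ⟨Θ, hΘ, h⟩ := aux hM hstr θ hθ Finset.univ N h1
  exact ⟨Θ, hΘ, fun V => h V (Finset.mem_univ V)⟩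

end main

end Cfsg.Agent.H819.KB.Prod
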